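import Groth.Agent.BlowCompLib.Compose

/-! Blow-up of a union of two disjoint centres as a fibre product. -/

set_option autoImplicit false
set_option linter.style.haveILetI false
set_option backward.isDefEq.respectTransparency false

universe u

open CategoryTheory CategoryTheory.Limits AlgebraicGeometry

namespace Groth.Agent.BlowProdLib

variable {X : Scheme.{u}}

/-- Being effective Cartier can be checked on open immersions covering the scheme. -/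
theorem isEffCartier_of_local (D : X.IdealSheafData)
    (h : ∀ x : X, ∃ (U : Scheme.{u}) (j : U ⟶ X) (_ : IsOpenImmersion j) (u : U), j u = x ∧
      BlowUp.IsEffCartierIdeal (D.comap j)) : BlowUp.IsEffCartierIdeal D := fun x => by
  obtain ⟨U, j, _, u, rfl, hD⟩ := h x
  obtain ⟨A, huA, g, hg, hA⟩ := hD u
  let V : X.affineOpens := ⟨j ''ᵁ A.1, A.2.image_of_isOpenImmersion j⟩
  refine ⟨V, ⟨u, huA, rfl⟩, ?_⟩
  have e : A.1 ≤ j ⁻¹ᵁ V.1 := (j.preimage_image_eq A.1).ge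
  let φ := j.appLE V.1 A.1 e
  haveI : IsIso φ := by
    show IsIso (j.app _ ≫ U.presheaf.map _)
    haveI : IsIso (j.app V.1) := j.isIso_app _ (by rintro _ ⟨a, -, rfl⟩; exact ⟨a, rfl⟩)
    haveI : IsIso (U.presheaf.map (homOfLE e).op) := by
      rw [Subsingleton.elim (homOfLE e) (eqToHom (j.preimage_image_eq A.1).symm)]
      infer_instance
    infer_instance
  let ψ := (asIso φ).commRingCatIsoToRingEquiv
  refine ⟨ψ.symm g, MulEquivClass.map_nonZeroDivisors ψ.symm ▸ ⟨g, hg, rfl⟩, ?_⟩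
  have h1 : (D.ideal V).map (ψ : Γ(X, V.1) →+* Γ(U, A.1)) = Ideal.span {g} := by
    rw [← hA, IdealStalkLib.comap_ideal D j V.2 A.2 e]
    rfl
  have h2 := congrArg (Ideal.map (ψ.symm : Γ(U, A.1) →+* Γ(X, V.1))) h1
  rw [Ideal.map_map, Ideal.map_span, Set.image_singleton] at h2
  simpa using h2

theorem inf_eq_mul {I₁ I₂ : X.IdealSheafData} (h : I₁ ⊔ I₂ = ⊤) : I₁ ⊓ I₂ = I₁ * I₂ := by
  ext U : 2
  rw [Scheme.IdealSheafData.ideal_inf, Scheme.IdealSheafData.ideal_mul, Pi.inf_apply, Pi.mul_apply]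
  refine (Ideal.mul_eq_inf_of_isCoprime ?_).symm
  rw [Ideal.isCoprime_iff_sup_eq, ← Pi.sup_apply, ← Scheme.IdealSheafData.ideal_sup, h,
    Scheme.IdealSheafData.ideal_top]
  rfl

theorem not_mem_support {I₁ I₂ : X.IdealSheafData} (h : I₁ ⊔ I₂ = ⊤) {x : X} (hx : x ∈ I₁.support) :
    x ∉ I₂.support := fun hx2 => by
  have := Scheme.IdealSheafData.support_sup (I := I₁) (J := I₂)
  rw [h, Scheme.IdealSheafData.support_top] at this
  exact (this ▸ ⟨hx, hx2⟩ : x ∈ (⊥ : TopologicalSpace.Closeds X))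

theorem isEffCartier_comap_pullback_snd {B₁ B₂ : Scheme.{u}} {I₁ I₂ : X.IdealSheafData} (h : I₁ ⊔ I₂ = ⊤)
    (σ₁ : B₁ ⟶ X) (hσ₁ : BlowUp.IsBlowUp σ₁ I₁) (σ₂ : B₂ ⟶ X) (hσ₂ : BlowUp.IsBlowUp σ₂ I₂) :
    BlowUp.IsEffCartierIdeal (I₂.comap (pullback.snd σ₁ σ₂ ≫ σ₂)) := by
  refine isEffCartier_of_local _ fun x => ?_
  let T := pullback.snd σ₁ σ₂
  by_cases hx : (T ≫ σ₂) x ∈ I₂.support
  · let W : X.Opens := I₁.support.compl
    let V : B₂.Opens := σ₂ ⁻¹ᵁ W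
    have hxV : x ∈ T ⁻¹ᵁ V := fun hx1 => not_mem_support h hx1 hx
    refine ⟨_, (T ⁻¹ᵁ V).ι, inferInstance, ⟨x, hxV⟩, rfl, ?_⟩
    haveI : IsIso (σ₁ ∣_ W) := BlowCompLib.isIso_restrict I₁ σ₁ hσ₁
    have s := (isPullback_morphismRestrict T V).paste_vert (IsPullback.of_hasPullback σ₁ σ₂).flip
    rw [← morphismRestrict_ι σ₂ W] at s
    have q := s.of_bot' (isPullback_morphismRestrict σ₁ W)
    haveI : IsIso (T ∣_ V) := MorphismProperty.of_isPullback (P := MorphismProperty.isomorphisms Scheme) q.flip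
      (inferInstanceAs (IsIso (σ₁ ∣_ W)))
    rw [← Scheme.IdealSheafData.comap_comp, show (T ⁻¹ᵁ V).ι ≫ pullback.snd σ₁ σ₂ ≫ σ₂ = ((T ∣_ V) ≫ V.ι) ≫ σ₂ by
      rw [morphismRestrict_ι, Category.assoc], Scheme.IdealSheafData.comap_comp]
    exact BlowCompLib.isEffCartier_comap_openImmersion hσ₂.1 _
  · refine ⟨_, ((T ≫ σ₂) ⁻¹ᵁ I₂.support.compl).ι, inferInstance, ⟨x, hx⟩, rfl, ?_⟩
    rw [← Scheme.IdealSheafData.comap_comp, BlowCompLib.comap_eq_top _ _ fun y => by exact y.2]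
    exact BlowCompLib.isEffCartier_top

theorem exists_iso_pullback {B B₁ B₂ : Scheme.{u}} {I₁ I₂ : X.IdealSheafData} (hdisj : I₁ ⊔ I₂ = ⊤)
    (σ : B ⟶ X) (hσ : BlowUp.IsBlowUp σ (I₁ ⊓ I₂))
    (σ₁ : B₁ ⟶ X) (hσ₁ : BlowUp.IsBlowUp σ₁ I₁) (σ₂ : B₂ ⟶ X) (hσ₂ : BlowUp.IsBlowUp σ₂ I₂) :
    ∃ ι : B ⟶ pullback σ₁ σ₂, IsIso ι ∧ ι ≫ pullback.fst σ₁ σ₂ ≫ σ₁ = σ := by
  rw [inf_eq_mul hdisj] at hσ
  have hm := hσ.1
  rw [BlowCompLib.comap_mul] at hm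
  obtain ⟨a, ha, hau⟩ := hσ₁.2 B σ (BlowCompLib.isEffCartier_of_mul hm)
  rw [mul_comm] at hm
  obtain ⟨b, hb, hbu⟩ := hσ₂.2 B σ (BlowCompLib.isEffCartier_of_mul hm)
  let p := pullback.fst σ₁ σ₂ ≫ σ₁
  have hp2 : BlowUp.IsEffCartierIdeal (I₂.comap p) := by
    rw [show p = pullback.snd σ₁ σ₂ ≫ σ₂ from pullback.condition]
    exact isEffCartier_comap_pullback_snd hdisj σ₁ hσ₁ σ₂ hσ₂
  have hp1 : BlowUp.IsEffCartierIdeal (I₁.comap p) := by
    have h1 := isEffCartier_comap_pullback_snd (by rwa [sup_comm]) σ₂ hσ₂ σ₁ hσ₁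
    rw [show p = (pullbackSymmetry σ₁ σ₂).hom ≫ pullback.snd σ₂ σ₁ ≫ σ₁ by
      simp [p], Scheme.IdealSheafData.comap_comp]
    exact BlowCompLib.isEffCartier_comap_openImmersion h1 _
  obtain ⟨r, hr, hru⟩ := hσ.2 _ p (by rw [BlowCompLib.comap_mul]; exact BlowCompLib.isEffCartier_mul hp1 hp2)
  let ι := pullback.lift a b (ha.trans hb.symm)
  have hι : ι ≫ p = σ := by
    show pullback.lift a b _ ≫ pullback.fst σ₁ σ₂ ≫ σ₁ = σ
    rw [pullback.lift_fst_assoc, ha]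
  refine ⟨ι, ⟨r, ?_, ?_⟩, hι⟩
  · obtain ⟨_, _, hu⟩ := hσ.2 B σ hσ.1
    exact (hu (ι ≫ r) (show (ι ≫ r) ≫ σ = σ by rw [Category.assoc, hr, hι])).trans
      (hu (𝟙 B) (Category.id_comp σ)).symm
  · obtain ⟨c, -, hcu⟩ := hσ₁.2 _ p hp1
    obtain ⟨d, -, hdu⟩ := hσ₂.2 _ p hp2
    refine pullback.hom_ext ?_ ?_
    · refine (hcu _ ?_).trans ((hcu (pullback.fst σ₁ σ₂) rfl).symm.trans (Category.id_comp _).symm)
      show ((r ≫ ι) ≫ pullback.fst σ₁ σ₂) ≫ σ₁ = p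
      simp only [Category.assoc, ι, pullback.lift_fst_assoc, ha, hr]
    · refine (hdu _ ?_).trans ((hdu (pullback.snd σ₁ σ₂) pullback.condition.symm).symm.trans (Category.id_comp _).symm)
      show ((r ≫ ι) ≫ pullback.snd σ₁ σ₂) ≫ σ₂ = p
      simp only [Category.assoc, ι, pullback.lift_snd_assoc, hb, hr]

end Groth.Agent.BlowProdLib
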